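import Cfsg.Agent.H930.RC.Field
import Cfsg.Agent.H930.RC.GL42

/-!
# S3510, box A5, `(n, q_0) = (4, 2)`: the members over the prime field (helper930)
-/

set_option autoImplicit false

namespace Cfsg.Agent.H930.RC

open Cfsg.Agent.H106.RC MulAction
open Cfsg.Agent.ClassicalGeometry.AutPSL.Root Cfsg.Agent.ClassicalGeometry.AutPSL.Auto
open Cfsg.Agent.H199.PslAut Cfsg.Agent.H199.PslField

section two

variable {F : Type} [Field F] {n : ℕ} {G : Type} [Group G] {N : Subgroup G}

theorem eq_zero_or_one {K : Type*} [Field K] (hK2 : Nat.card K = 2) (a : K) : a = 0 ∨ a = 1 := by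
  have : Finite K := Nat.finite_of_card_ne_zero (by rw [hK2]; norm_num)
  have : Fintype K := Fintype.ofFinite K
  by_contra hno
  push Not at hno
  have h1 : 2 < Fintype.card K := Fintype.two_lt_card_iff.2 ⟨0, 1, a, zero_ne_one, hno.1.symm, hno.2.symm⟩
  rw [← Nat.card_eq_fintype_card, hK2] at h1
  omega

/-- the homomorphism `GL_n(2) → Aut(PSL_n(F))` is injective -/
theorem theta_inj {K : Type} [Field K] (hK2 : Nat.card K = 2) (hn : 2 ≤ n) (j : K →+* F) :
    Function.Injective (theta n j) := by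
  rw [← MonoidHom.ker_eq_bot_iff, theta_ker hn, Matrix.GeneralLinearGroup.center_eq_range_scalar, eq_bot_iff]
  rintro _ ⟨u, rfl⟩
  have hu : u = 1 := by
    apply Units.ext
    rcases eq_zero_or_one hK2 (u : K) with h | h
    · exact absurd h u.ne_zero
    · exact h
  rw [hu, map_one]
  exact Subgroup.mem_bot.2 rfl

theorem phi_pow_form (g : GL (Fin n) F) (τ : F ≃+* F) (m : ℕ) :
    ∃ g' : GL (Fin n) F, (Psi n F g * phi n F τ) ^ m = Psi n F g' * phi n F (τ ^ m) := by
  induction m with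
  | zero => exact ⟨1, by simp⟩
  | succ m ih =>
    obtain ⟨g', h⟩ := ih
    refine ⟨g' * mapGL (τ ^ m) g, ?_⟩
    rw [pow_succ, h, map_mul, pow_succ, map_mul, mul_assoc, ← mul_assoc (phi n F (τ ^ m)), phi_mul_Psi]
    simp only [mul_assoc]

/-- the members of a cover different from the field automorphism are given by matrices over the prime field -/
theorem exists_mat {Ω ι : Type} [Finite F] [MulAction G Ω] (hn : 3 ≤ n)
    (hE : Env G Ω N) (e : N ≃* Matrix.ProjectiveSpecialLinearGroup (Fin n) F) {x : ι → G} {r : ι → ℕ}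
    (hx : PF x r)
    (hlin : ∀ i, ∃ (g : GL (Fin n) F) (σ : F ≃+* F), cS hE.norm e (x i) = Psi n F g * phi n F σ)
    {i₀ : ι} {σ : F ≃+* F} (hσ : cS hE.norm e (x i₀) = phi n F σ) {K : Subfield F} (hK : ∀ a, a ∈ K ↔ σ a = a)
    (hK2 : Nat.card K = 2) :
    ∃ k : ι → GL (Fin n) K, (∀ i, i ≠ i₀ → cS hE.norm e (x i) = theta n K.subtype (k i)) ∧
      (∀ i j, i ≠ i₀ → j ≠ i₀ → k i * k j = k j * k i) ∧ (∀ i, i ≠ i₀ → k i ^ r i = 1 ∧ k i ≠ 1) := by
  have hN := hE.norm
  have hn2 : 2 ≤ n := by omega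
  have hK' : ∀ a, σ a = a ↔ ∃ b, K.subtype b = a := by
    intro a
    rw [← hK]
    constructor
    · intro ha
      exact ⟨⟨a, ha⟩, rfl⟩
    · rintro ⟨b, rfl⟩
      exact b.2
  have hinj := theta_inj (F := F) hK2 hn2 K.subtype
  have hex : ∀ i, i ≠ i₀ → ∃ k : GL (Fin n) K, cS hN e (x i) = theta n K.subtype k := by
    intro i hi
    obtain ⟨g, τ, hg⟩ := hlin i
    -- `τ = 1`
    have hτσ : τ ∈ Subgroup.zpowers σ := by
      apply mem_zpowers_of_fix
      intro a ha
      have h1 := (hK a).2 ha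
      rcases eq_zero_or_one hK2 ⟨a, h1⟩ with h | h
      · have : a = 0 := congrArg Subtype.val h
        rw [this, map_zero]
      · have : a = 1 := congrArg Subtype.val h
        rw [this, map_one]
    have hσr : σ ^ r i₀ = 1 := by
      apply phi_injective hn2
      rw [map_pow, ← hσ, ← map_pow, hx.pow, map_one, map_one]
    have hτr : τ ^ r i₀ = 1 := by
      obtain ⟨k, rfl⟩ := Subgroup.mem_zpowers_iff.1 hτσ
      rw [← zpow_natCast, ← zpow_mul, mul_comm, zpow_mul, zpow_natCast, hσr, one_zpow]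
    have hτi : τ ^ r i = 1 := by
      obtain ⟨g', h1⟩ := phi_pow_form (n := n) g τ (r i)
      rw [← hg, ← map_pow, hx.pow, map_one] at h1
      exact ((Psi_phi_eq hn2 (σ := τ ^ r i) (τ := 1) (by rw [← h1, map_one])).2)
    have hτ : τ = 1 := by
      have h7 : Nat.Coprime (r i) (r i₀) :=
        (Nat.coprime_primes (hx.prime _) (hx.prime _)).2 fun h => hi (hx.inj h)
      have h8 := Nat.dvd_gcd (orderOf_dvd_of_pow_eq_one hτi) (orderOf_dvd_of_pow_eq_one hτr)
      rw [h7.gcd_eq_one, Nat.dvd_one, orderOf_eq_one_iff] at h8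
      exact h8
    rw [hτ, map_one, mul_one] at hg
    have h1 : Psi n F g ∈ Subgroup.centralizer {phi n F σ} := by
      rw [Subgroup.mem_centralizer_singleton_iff, ← hg, ← hσ, ← map_mul, ← map_mul, hx.comm]
    obtain ⟨u, k, rfl⟩ := (comm_phi_iff hn2 hK' g).1 h1
    refine ⟨k, ?_⟩
    rw [hg, map_mul, Psi_scal, one_mul]
    rfl
  classical
  let k : ι → GL (Fin n) K := fun i => if h : i ≠ i₀ then (hex i h).choose else 1
  have hk : ∀ i, i ≠ i₀ → cS hN e (x i) = theta n K.subtype (k i) := by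
    intro i hi
    change _ = theta n K.subtype (dite _ _ _)
    rw [dif_pos hi]
    exact (hex i hi).choose_spec
  refine ⟨k, hk, fun i j hi hj => ?_, fun i hi => ⟨?_, fun h1 => ?_⟩⟩
  · apply hinj
    rw [map_mul, map_mul, ← hk i hi, ← hk j hj, ← map_mul, ← map_mul, hx.comm]
  · apply hinj
    rw [map_pow, ← hk i hi, ← map_pow, hx.pow, map_one, map_one]
  · apply hx.ne i
    apply cS_inj hN e hE.cent
    rw [hk i hi, h1, map_one, map_one]

/-- the action of `GL_4(2)` on its natural module -/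
def vf {K : Type} [Field K] (k : GL (Fin n) K) : (Fin n → K) →+ (Fin n → K) where
  toFun v := (k : Matrix (Fin n) (Fin n) K).mulVec v
  map_zero' := Matrix.mulVec_zero _
  map_add' a b := Matrix.mulVec_add _ a b

theorem vf_apply {K : Type} [Field K] (k : GL (Fin n) K) (v : Fin n → K) :
    vf k v = (k : Matrix (Fin n) (Fin n) K).mulVec v := rfl

theorem vf_iterate {K : Type} [Field K] (k : GL (Fin n) K) (m : ℕ) (v : Fin n → K) :
    ((vf k)^[m]) v = ((k ^ m : GL (Fin n) K) : Matrix (Fin n) (Fin n) K).mulVec v := by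
  induction m generalizing v with
  | zero => simp
  | succ m ih =>
    rw [Function.iterate_succ_apply, ih, vf_apply, Matrix.mulVec_mulVec, pow_succ, Units.val_mul]

theorem vf_comm {K : Type} [Field K] {k l : GL (Fin n) K} (h : k * l = l * k) (v : Fin n → K) :
    vf k (vf l v) = vf l (vf k v) := by
  rw [vf_apply, vf_apply, vf_apply, vf_apply, Matrix.mulVec_mulVec, Matrix.mulVec_mulVec, ← Units.val_mul, h,
    Units.val_mul]

theorem vf_ne {K : Type} [Field K] {k : GL (Fin n) K} (h : k ≠ 1) : ∃ v, vf k v ≠ v := by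
  by_contra hno
  push Not at hno
  apply h
  apply Units.ext
  apply Matrix.mulVec_injective
  funext v
  rw [Units.val_one, Matrix.one_mulVec]
  exact hno v

/-- prime orders of elements of `GL_4(2)` -/
theorem mat_prime {K : Type} [Field K] (hK2 : Nat.card K = 2) {m : GL (Fin 4) K} {s : ℕ} (hs : s.Prime)
    (hm : m ^ s = 1) (hm1 : m ≠ 1) : s = 2 ∨ s = 3 ∨ s = 5 ∨ s = 7 := by
  have : Finite K := Nat.finite_of_card_ne_zero (by rw [hK2]; norm_num)
  have : Fintype K := Fintype.ofFinite K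
  have hcard : Nat.card (GL (Fin 4) K) = 20160 := by
    have h1 := Matrix.card_GL_field (𝔽 := K) 4
    rw [Nat.card_eq_fintype_card] at hK2
    rw [h1, hK2]
    simp [Fin.prod_univ_succ]
  have := Fact.mk hs
  have h1 : orderOf m = s := orderOf_eq_prime hm hm1
  have h2 : s ∣ 20160 := by rw [← h1, ← hcard]; exact orderOf_dvd_natCard m
  have h3 : s ∈ Nat.primeFactors 20160 := Nat.mem_primeFactors.2 ⟨hs, h2, by norm_num⟩
  have h4 : Nat.primeFactors 20160 = {2, 3, 5, 7} := by
    rw [show 20160 = 2 ^ 6 * (3 ^ 2 * (5 * 7)) by norm_num]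
    rw [Nat.primeFactors_mul (by norm_num) (by norm_num), Nat.primeFactors_mul (by norm_num) (by norm_num),
      Nat.primeFactors_mul (by norm_num) (by norm_num), Nat.primeFactors_prime_pow (by norm_num) (by norm_num),
      Nat.primeFactors_prime_pow (by norm_num) (by norm_num), Nat.Prime.primeFactors (by norm_num),
      Nat.Prime.primeFactors (by norm_num)]
    rfl
  rw [h4] at h3
  simpa using h3

theorem two_vec {K : Type} [Field K] (hK2 : Nat.card K = 2) (v : Fin n → K) : v + v = 0 := by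
  funext i
  change v i + v i = 0
  have h2 : (1 : K) + 1 = 0 := by
    rcases eq_zero_or_one hK2 ((1 : K) + 1) with h | h
    · exact h
    · exfalso
      exact one_ne_zero (add_left_cancel (h.trans (add_zero 1).symm))
  rw [← two_mul, ← one_add_one_eq_two, h2, zero_mul]

theorem card_vec {K : Type} [Field K] (hK2 : Nat.card K = 2) : Nat.card (Fin 4 → K) = 16 := by
  rw [Nat.card_fun, hK2, Nat.card_eq_fintype_card, Fintype.card_fin]
  norm_num

/-- orders of commuting elements of `GL_4(2)` -/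
theorem mat_orders {K : Type} [Field K] (hK2 : Nat.card K = 2) {k l : GL (Fin 4) K} {p q : ℕ}
    (hp : p.Prime) (hq : q.Prime) (hpq : p ≠ q)
    (hk : k ^ p = 1) (hk1 : k ≠ 1) (hl : l ^ q = 1) (hl1 : l ≠ 1) (hc : k * l = l * k) :
    (p = 3 ∧ (q = 2 ∨ q = 5)) ∨ (q = 3 ∧ (p = 2 ∨ p = 5)) := by
  refine orders (f := vf k) (g := vf l) (card_vec hK2) (two_vec hK2) (mat_prime hK2 hp hk hk1)
    (mat_prime hK2 hq hl hl1) hpq (fun v => ?_) (vf_ne hk1) (fun v => ?_) (vf_ne hl1) (vf_comm hc)
  · rw [vf_iterate, hk, Units.val_one, Matrix.one_mulVec]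
  · rw [vf_iterate, hl, Units.val_one, Matrix.one_mulVec]

end two

end Cfsg.Agent.H930.RC
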